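import Groth.Agent.AlgSpLib.PointMono
import Groth.Agent.AlgSpLib.Bootstrap

/-!
# Every point of an algebraic space is the image of a monomorphism from a residual space
-/

set_option autoImplicit false
set_option linter.style.haveILetI false
set_option backward.isDefEq.respectTransparency false
set_option backward.isDefEq.respectTransparency.types false

universe u

open CategoryTheory CategoryTheory.Limits AlgebraicGeometry AlgSp AlgSpLib Opposite

noncomputable section

namespace ResSpaceLib

variable {S : Scheme.{u}}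

theorem exists_residualSpace {X : Sp S} (hX : IsAlgSpace X) (x : Points X) :
    ∃ (Z : Sp S) (c : Z ⟶ X), IsAlgSpace Z ∧ Mono c ∧ Set.range (Points.map c) = {x} ∧
      ∃ (k : Type u) (_ : Field k) (str : Spec (CommRingCat.of k) ⟶ S) (p : (yon S).obj (Over.mk str) ⟶ Z),
        LocP @LocallyOfFinitePresentation p ∧ LocP @Flat p ∧ IsSurjectiveMor p := by
  obtain ⟨U, a, ha, has⟩ := hX.atlas
  obtain ⟨u, hux⟩ := surjective_ofPt has x
  let U₁ : Over S := Over.mk (U.left.fromSpecResidueField u ≫ U.hom)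
  let j : U₁ ⟶ U := Over.homMk (U.left.fromSpecResidueField u) rfl
  haveI : Subsingleton U₁.left := inferInstanceAs (Subsingleton (PrimeSpectrum (U.left.residueField u)))
  haveI : IsReduced U₁.left := inferInstanceAs (IsReduced (Spec (U.left.residueField u)))
  let u₀ : U₁.left := IsLocalRing.closedPoint (U.left.residueField u)
  have hju : ∀ y, j.left y = u := fun y => U.left.fromSpecResidueField_apply u y
  let b : (yon S).obj U₁ ⟶ X := (yon S).map j ≫ a
  have hbx : ∀ y, Points.ofPt b y = x := fun y => by rw [ofPt_yon_comp, hju, hux]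
  obtain ⟨E, e₂, e₁, sqE⟩ := exists_isPullback_yon a b ha.rep
  haveI : Etale e₁.left := etale_left (repWith_of_isPullback sqE ha)
  haveI : IsReduced E.left := isReduced_of_smooth e₁.left
  haveI : LocallyQuasiFinite e₁.left := locallyQuasiFinite_of_etale e₁.left
  haveI : IsLocallyArtinian E.left := .of_locallyQuasiFinite e₁.left
  haveI : DiscreteTopology E.left := inferInstance
  obtain ⟨R₀, r₀, s, sqR₀⟩ : ∃ (R₀ : Over S) (r₀ : R₀ ⟶ E) (t₀ : R₀ ⟶ U₁), IsPullback r₀ t₀ e₂ j :=
    ⟨_, _, _, IsPullback.of_hasPullback e₂ j⟩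
  let O : E.left.Opens := ⟨e₂.left ⁻¹' {u}, isOpen_discrete _⟩
  have hrange : Set.range r₀.left ⊆ O := by
    rintro _ ⟨y, rfl⟩
    have : (r₀ ≫ e₂).left y = (s ≫ j).left y := by rw [sqR₀.w]
    rw [Over.comp_left, Over.comp_left, Scheme.Hom.comp_apply, Scheme.Hom.comp_apply, hju] at this
    exact this
  let k : R₀.left ⟶ O.toScheme := IsOpenImmersion.lift O.ι r₀.left (by rwa [Scheme.Opens.range_ι])
  have hk : k ≫ O.ι = r₀.left := IsOpenImmersion.lift_fac _ _ _
  have sqRl : IsPullback r₀.left s.left e₂.left j.left := sqR₀.map (Over.forget S)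
  haveI : Mono r₀.left := by
    haveI : Mono j.left := inferInstanceAs (Mono (U.left.fromSpecResidueField u))
    exact MorphismProperty.of_isPullback (P := MorphismProperty.monomorphisms Scheme) sqRl.flip
      (inferInstanceAs (Mono j.left))
  haveI : Mono k := mono_of_mono_fac hk
  haveI : Surjective k := ⟨fun y => by
    obtain ⟨z, hz, -⟩ := Scheme.exists_preimage_of_isPullback sqRl y.1 u₀ (y.2.trans (hju u₀).symm)
    refine ⟨z, Subtype.ext ?_⟩
    exact ((Scheme.Hom.comp_apply k O.ι z).symm.trans (by rw [hk])).trans hz⟩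
  haveI : IsPreimmersion r₀.left := by
    haveI : IsPreimmersion j.left := inferInstanceAs (IsPreimmersion (U.left.fromSpecResidueField u))
    exact MorphismProperty.of_isPullback (P := @IsPreimmersion) sqRl.flip (inferInstanceAs (IsPreimmersion j.left))
  have hkinj : Function.Injective k := fun p q h => r₀.left.isEmbedding.injective (by
    rw [← hk, Scheme.Hom.comp_apply, Scheme.Hom.comp_apply, h])
  haveI : DiscreteTopology ↥O.toScheme := O.ι.isOpenEmbedding.isEmbedding.discreteTopology
  haveI : QuasiCompact k := ⟨fun V _ hc => (hc.finite_of_discrete.preimage hkinj.injOn).isCompact⟩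
  haveI : IsIso k := isIso_of_mono_surjective_discrete k
  haveI : IsOpenImmersion r₀.left := hk ▸ inferInstance
  let t := r₀ ≫ e₁
  have sqRX : IsPullback ((yon S).map s) ((yon S).map t) b b := by
    rw [Functor.map_comp]
    exact (sqR₀.flip.map (yon S)).paste_vert sqE
  haveI : Etale t.left := inferInstanceAs (Etale (r₀.left ≫ e₁.left))
  haveI : Etale s.left := by
    obtain ⟨φ, hφ⟩ := (yon S).map_surjective (sqRX.isoIsPullback _ _ sqRX.flip).hom
    haveI : IsIso ((yon S).map φ) := hφ ▸ inferInstance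
    haveI : IsIso φ := isIso_of_fully_faithful (yon S) φ
    have e : φ ≫ t = s := (yon S).map_injective (by
      rw [Functor.map_comp, hφ, IsPullback.isoIsPullback_hom_fst])
    haveI : IsIso φ.left := inferInstanceAs (IsIso ((Over.forget S).map φ))
    rw [← e, Over.comp_left]
    infer_instance
  have hrel : IsEtaleEqvRel t s := ⟨isEqvRel_of_kernelPair sqRX, ‹Etale t.left›, ‹Etale s.left›⟩
  let p := qπ t s
  have sqp := isPullback_qπ t s hrel.toIsEqvRel
  obtain ⟨-, hpe, hps, hZ⟩ := isAlgSpace_of_kernelPair sqp hrel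
  obtain ⟨c, hc⟩ := exists_desc p b fun T g g' e => by
    obtain ⟨g, rfl⟩ := (yon S).map_surjective g
    obtain ⟨g', rfl⟩ := (yon S).map_surjective g'
    obtain ⟨r, hr⟩ := (yon S).map_surjective (sqp.lift _ _ e)
    rw [← sqp.lift_fst _ _ e]
    conv_rhs => rw [← sqp.lift_snd _ _ e]
    rw [Category.assoc, Category.assoc, sqRX.w]
  have hcmono : Mono c := by
    refine mono_of_injective fun T g g' e => ?_
    obtain ⟨V, v, hv, hvf, hvp, hvs⟩ := exists_family_of_mem (U := T) (GrothendieckTopology.intersection_covering _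
      (Presheaf.imageSieve_mem (AlgSp.J S) p.hom (yEq g)) (Presheaf.imageSieve_mem (AlgSp.J S) p.hom (yEq g')))
    refine hom_ext_of_cover v hvf hvp (fun y => ⟨y, hvs y⟩) fun i => ?_
    obtain ⟨⟨q₁, hq₁⟩, ⟨q₂, hq₂⟩⟩ := hv i
    obtain ⟨h₁, hh₁⟩ := (yon S).map_surjective (yEq.symm q₁)
    obtain ⟨h₂, hh₂⟩ := (yon S).map_surjective (yEq.symm q₂)
    have e₁' : (yon S).map h₁ ≫ p = (yon S).map (v i) ≫ g := by
      apply yEq.injective; rw [hh₁, yEq_comp, Equiv.apply_symm_apply, yEq_map]; exact hq₁
    have e₂' : (yon S).map h₂ ≫ p = (yon S).map (v i) ≫ g' := by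
      apply yEq.injective; rw [hh₂, yEq_comp, Equiv.apply_symm_apply, yEq_map]; exact hq₂
    obtain ⟨r, hr₁, hr₂⟩ := kp_lift sqRX h₁ h₂ (by
      rw [← hc, ← Category.assoc, e₁', ← Category.assoc, e₂', Category.assoc, Category.assoc, e])
    rw [← e₁', ← e₂', ← hr₁, ← hr₂, Functor.map_comp, Functor.map_comp, Category.assoc, Category.assoc]
    exact congrArg ((yon S).map r ≫ ·) sqp.w
  refine ⟨_, c, hZ, hcmono, ?_, U.left.residueField u, inferInstance, _, p,
    locP_of_repWith (repWith_mono (fun _ _ f (_ : Etale f) => (inferInstance : LocallyOfFinitePresentation f)) hpe),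
    locP_of_repWith (repWith_mono (fun _ _ f (_ : Etale f) => (inferInstance : Flat f)) hpe),
    (repWith_surjective_iff hps.rep).1 hps⟩
  refine Set.eq_singleton_iff_unique_mem.2 ⟨⟨Points.ofPt p u₀, ?_⟩, ?_⟩
  · rw [Points.map_ofPt, hc, hbx]
  · rintro _ ⟨z, rfl⟩
    obtain ⟨y, rfl⟩ := surjective_ofPt hps z
    rw [Points.map_ofPt, hc, hbx]

end ResSpaceLib
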